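import Groth.Agent.RegExch.Relative
import Groth.Agent.Synt29.SmoothReg
import Groth.Agent.Synt29.FibrePd
import Groth.Agent.GrpSchLib.SmoothRegular
import Groth.Agent.SchTop.Closed
import Groth.Agent.S2768
import Groth.Agent.S6946
import Groth.Agent.PBlow.PB
import Groth.Agent.KZ.CycleTensor
import Groth.Prelude.Def_DerSch
import Mathlib.AlgebraicGeometry.Morphisms.Smooth
import Mathlib.AlgebraicGeometry.Morphisms.Immersion

/-!
# The tor dimension of a morphism, flat over the base, into a smooth scheme
-/

set_option autoImplicit false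
set_option linter.style.haveILetI false
set_option backward.isDefEq.respectTransparency false

universe u

open CategoryTheory CategoryTheory.Limits AlgebraicGeometry IsLocalRing

namespace Groth.Agent.TorDimSmooth

open Groth.Agent.RegLoc6 Groth.Agent.FlatLoc6

attribute [local instance] HasDerivedCategory.standard

theorem torDimLE_of_pdLE_flat {L B : Type u} [CommRing L] [CommRing B] [IsNoetherianRing B] [Algebra L B]
    [Module.Flat L B] : ∀ (n : ℕ) (M : Type u) [AddCommGroup M] [Module B M] [Module L M] [IsScalarTower L B M]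
      [Module.Finite B M], PdLE B n M → DRing.HasTorDimLE L n M := by
  intro n
  induction n with
  | zero =>
    intro M _ _ _ _ _ h
    haveI : Module.Projective B M := pdLE_zero_iff.1 h
    haveI : Module.Flat L M := Module.Flat.trans L B M
    exact RegExch.torDimLE_of_flat 0
  | succ n ih =>
    intro M _ _ _ _ _ h
    obtain ⟨r, g, hg⟩ := exists_presentation (R := B) (M := M)
    haveI : Module.Flat L (Fin r → B) := Module.Flat.trans L B _
    haveI : Module.Finite B (LinearMap.ker g) := Module.Finite.iff_fg.2 (IsNoetherian.noetherian _)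
    exact RegExch.torDimLE_third ((LinearMap.ker g).subtype.restrictScalars L) (g.restrictScalars L)
      Subtype.val_injective (LinearMap.exact_subtype_ker_map g) hg
      (ih (LinearMap.ker g) ((pdLE_succ_iff g hg).1 h)) (RegExch.torDimLE_of_flat (n + 1))

theorem stalk_le_localDim {X : Scheme.{u}} (x : X) :
    ringKrullDim (X.presheaf.stalk x) ≤ FlatMor.localDim X x := by
  refine le_iInf fun U => ?_
  exact ((ringKrullDim_eq_of_ringEquiv
    (Scheme.Opens.stalkIso U.1 ⟨x, U.2⟩).commRingCatIsoToRingEquiv).symm.le).trans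
    (SchTop.ringKrullDim_stalk_le (X := (U.1 : Scheme.{u})) ⟨x, U.2⟩)

theorem nonempty_stalk_structure {Y : Scheme.{u}} (y : Y) :
    Nonempty ((Y.presheaf.stalk y : Type u) ≃ₗ[Y.presheaf.stalk y]
      ((DerSch.stalkFunctor Y y).obj (Coh.structureModule Y) : Type u)) := by
  obtain ⟨b⟩ := KZ.CycleClass.exists_basis (PBlow.rank_one_unit Y) y
  exact ⟨(b.equivFun ≪≫ₗ LinearEquiv.funUnique (Fin 1) (Y.presheaf.stalk y) (Y.presheaf.stalk y)).symm⟩

theorem exists_fibre_regular {n : ℕ} {W X : Scheme.{u}} (π : W ⟶ X) [SmoothOfRelativeDimension n π] (w : W) :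
    ∃ _ : IsRegularLocalRing (W.presheaf.stalk w ⧸
        (maximalIdeal (X.presheaf.stalk (π w))).map (π.stalkMap w).hom),
      (maximalIdeal (W.presheaf.stalk w ⧸
        (maximalIdeal (X.presheaf.stalk (π w))).map (π.stalkMap w).hom)).spanFinrank ≤ n := by
  haveI hs : SmoothOfRelativeDimension n (π.fiberToSpecResidueField (π w)) := by
    unfold Scheme.Hom.fiberToSpecResidueField
    exact (smoothOfRelativeDimension_isStableUnderBaseChange (n := n)).of_isPullback (IsPullback.of_hasPullback _ _) inferInstance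
  haveI : Smooth (π.fiberToSpecResidueField (π w)) := SmoothOfRelativeDimension.smooth n _
  haveI hR := GrpSchLib.isRegularLocalRing_stalk_of_smooth (π.fiberToSpecResidueField (π w)) (π.asFiber w)
  obtain ⟨e⟩ := Synt29.SmoothReg.exists_fiber_stalk_equiv π w
  have hreg := IsRegularLocalRing.of_ringEquiv e
  refine ⟨hreg, ?_⟩
  have h1 := stalk_le_localDim (π.asFiber w)
  rw [ringKrullDim_eq_of_ringEquiv e, show FlatMor.localDim (π.fiber (π w)) (π.asFiber w) = FlatMor.fibreDimAt π w from rfl,
    S2768.result n π w, ← (isRegularLocalRing_iff _).mp hreg] at h1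
  exact_mod_cast h1

/-- A morphism to a scheme smooth of relative dimension `n`, with source flat over the base, has tor dimension
at most `n`. -/
theorem hasTorDimLE_of_smooth {S X Y : Scheme.{u}} [IsLocallyNoetherian X]
    (p : X ⟶ S) (q : Y ⟶ S) (f : X ⟶ Y) (hf : f ≫ q = p) (n : ℕ)
    [SmoothOfRelativeDimension n q] [Flat p] : DerSch.HasTorDimLE f n := by
  let Γ : X ⟶ pullback p q := pullback.lift (𝟙 X) f (by rw [Category.id_comp, hf])
  let π1 : pullback p q ⟶ X := pullback.fst p q
  let π2 : pullback p q ⟶ Y := pullback.snd p q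
  haveI h1 : SmoothOfRelativeDimension n π1 :=
    (smoothOfRelativeDimension_isStableUnderBaseChange (n := n)).of_isPullback (IsPullback.of_hasPullback p q).flip inferInstance
  haveI : Smooth π1 := SmoothOfRelativeDimension.smooth n _
  haveI : IsLocallyNoetherian (pullback p q) := LocallyOfFiniteType.isLocallyNoetherian π1
  haveI : Flat π2 := MorphismProperty.pullback_snd _ _ inferInstance
  have hΓ : Γ ≫ π1 = 𝟙 X := pullback.lift_fst _ _ _
  haveI : IsIso (Γ ≫ π1) := by rw [hΓ]; infer_instance
  haveI : IsImmersion Γ := IsImmersion.of_comp Γ π1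
  suffices DerSch.HasTorDimLE (Γ ≫ π2) n by rwa [show Γ ≫ π2 = f from pullback.lift_snd _ _ _] at this
  intro x
  let B := (pullback p q).presheaf.stalk (Γ x)
  let M := X.presheaf.stalk x
  let A := X.presheaf.stalk (π1 (Γ x))
  let L := Y.presheaf.stalk ((Γ ≫ π2) x)
  let ψ : B →+* M := (Γ.stalkMap x).hom
  let φA : A →+* B := (π1.stalkMap (Γ x)).hom
  let φL : L →+* B := (π2.stalkMap (Γ x)).hom
  letI : Algebra A B := φA.toAlgebra
  letI : Algebra L B := φL.toAlgebra
  letI : Algebra B M := ψ.toAlgebra
  letI : Algebra A M := (ψ.comp φA).toAlgebra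
  letI : Algebra L M := (ψ.comp φL).toAlgebra
  haveI : IsScalarTower A B M := IsScalarTower.of_algebraMap_eq' rfl
  haveI : IsScalarTower L B M := IsScalarTower.of_algebraMap_eq' rfl
  haveI : IsLocalHom (algebraMap A B) := π1.toLRSHom.prop (Γ x)
  haveI : Module.Flat A B := Flat.stalkMap π1 (Γ x)
  haveI : Module.Flat L B := Flat.stalkMap π2 (Γ x)
  haveI : Module.Finite B M := Module.Finite.of_surjective (Algebra.linearMap B M) (Γ.stalkMap_surjective x)
  have hbij : Function.Bijective (algebraMap A M) := by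
    show Function.Bijective ((π1.stalkMap (Γ x)) ≫ Γ.stalkMap x).hom
    rw [← Scheme.Hom.stalkMap_comp]
    exact ConcreteCategory.bijective_of_isIso _
  haveI : Module.Flat A M := Module.Flat.of_linearEquiv
    (LinearEquiv.ofBijective (Algebra.linearMap A M) hbij).symm
  obtain ⟨hreg, hle⟩ := exists_fibre_regular (n := n) π1 (Γ x)
  haveI : IsRegularLocalRing (B ⧸ (maximalIdeal A).map (algebraMap A B)) := hreg
  haveI : Module.Finite (B ⧸ (maximalIdeal A).map (algebraMap A B)) (M ⧸ mN A B M) :=
    Module.Finite.of_restrictScalars_finite B _ _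
  have hpd : PdLE B n M := Synt29.pdLE_of_fibre (A := A) n M
    (pdLE_mono hle (pdLE_of_isRegularLocalRing _ _))
  have h := (S6946.result L M n).1.1 (torDimLE_of_pdLE_flat n M hpd)
  obtain ⟨E, hv, hf', ⟨e⟩⟩ := h
  obtain ⟨l⟩ := nonempty_stalk_structure x
  have hφ : ((Γ ≫ π2).stalkMap x).hom = algebraMap L M := by
    rw [Scheme.Hom.stalkMap_comp]; rfl
  let i₀ : (DerSch.stalkOver (Γ ≫ π2) x).obj (Coh.structureModule X) ≅ ModuleCat.of L M :=
    (ModuleCat.restrictScalars ((Γ ≫ π2).stalkMap x).hom).mapIso l.symm.toModuleIso ≪≫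
      (LinearEquiv.toModuleIso
        (m₁ := ((ModuleCat.restrictScalars ((Γ ≫ π2).stalkMap x).hom).obj (ModuleCat.of M M)).isModule)
        { toFun := fun z => z, invFun := fun z => z, left_inv := fun _ => rfl, right_inv := fun _ => rfl,
          map_add' := fun _ _ => rfl,
          map_smul' := fun c (z : M) => by
            show (((Γ ≫ π2).stalkMap x).hom c : M) * (z : M) = algebraMap L M c * (z : M)
            exact congrArg (fun a : M => a * z) (RingHom.congr_fun hφ c) })
  exact ⟨E, hv, hf', ⟨e ≪≫ (DerivedCategory.singleFunctorIsoCompQ _ 0).app _ ≪≫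
    (DerivedCategory.Q.mapIso
      ((HomologicalComplex.singleMapHomologicalComplex (DerSch.stalkOver (Γ ≫ π2) x) _ 0).app _ ≪≫
        (HomologicalComplex.single _ (ComplexShape.up ℤ) 0).mapIso i₀)).symm⟩⟩

end Groth.Agent.TorDimSmooth
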